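import Mathlib

/-!
# Local rings of relative normalizations away from the image
-/

set_option autoImplicit false
set_option linter.style.haveILetI false

universe u

open Polynomial

namespace Groth.Agent.NormBoundary

variable {A : Type u} [CommRing A]

/-- In a reduced local ring integrally closed in its total fraction ring, `0` and `1` are the only
idempotent fractions, so the ring is a domain. -/
theorem isDomain_of_integrallyClosed [IsNoetherianRing A] [IsLocalRing A] [IsReduced A]
    (H : ∀ a b : A, b ∈ nonZeroDivisors A → a * a = a * b → b ∣ a) : IsDomain A := by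
  classical
  have hfin : (minimalPrimes A).Finite := minimalPrimes.finite_of_isNoetherianRing A
  have hnz : ∀ x : A, (∀ q ∈ minimalPrimes A, x ∉ q) → x ∈ nonZeroDivisors A := by
    intro x hx
    refine mem_nonZeroDivisors_iff_right.2 fun y hy => ?_
    have h0 : y ∈ sInf (minimalPrimes A) := Submodule.mem_sInf.2 fun (q : Ideal A) hq => by
      haveI : q.IsPrime := hq.1.1
      exact ((‹q.IsPrime›.mem_or_mem (show y * x ∈ q by rw [hy]; exact q.zero_mem)).resolve_right (hx q hq))
    have h1 : y ∈ (⊥ : Ideal A).radical := by rwa [← Ideal.sInf_minimalPrimes]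
    exact IsReduced.eq_zero _ h1
  by_contra hdom
  have hne : (minimalPrimes A).Nonempty :=
    Set.nonempty_coe_sort.1 (Ideal.nonempty_minimalPrimes (I := (⊥ : Ideal A)) bot_ne_top)
  obtain ⟨q₁, hq₁⟩ := hne
  haveI : q₁.IsPrime := hq₁.1.1
  let S := hfin.toFinset.erase q₁
  have hS : ∀ q ∈ S, q.IsPrime := fun q hq => (hfin.mem_toFinset.1 (Finset.mem_of_mem_erase hq)).1.1
  have hSne : S.Nonempty := by
    rw [Finset.nonempty_iff_ne_empty]
    intro he
    have hall : ∀ q ∈ minimalPrimes A, q = q₁ := fun q hq => by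
      by_contra hne
      have hmem : q ∈ S := Finset.mem_erase.2 ⟨hne, hfin.mem_toFinset.2 hq⟩
      rw [he] at hmem
      exact absurd hmem (Finset.notMem_empty q)
    have hq0 : q₁ = ⊥ := by
      refine eq_bot_iff.2 fun y hy => ?_
      have h0 : y ∈ sInf (minimalPrimes A) := Submodule.mem_sInf.2 fun (q : Ideal A) hq => hall q hq ▸ hy
      have h1 : y ∈ (⊥ : Ideal A).radical := by rwa [← Ideal.sInf_minimalPrimes]
      exact IsReduced.eq_zero _ h1
    haveI : (⊥ : Ideal A).IsPrime := hq0 ▸ ‹q₁.IsPrime›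
    exact hdom (IsDomain.of_bot_isPrime A)
  have hincomp : ∀ q ∈ S, ¬ q ≤ q₁ ∧ ¬ q₁ ≤ q := fun q hq => by
    have hq' := hfin.mem_toFinset.1 (Finset.mem_of_mem_erase hq)
    haveI : q.IsPrime := hq'.1.1
    have hne := Finset.ne_of_mem_erase hq
    exact ⟨fun h => hne (le_antisymm h (hq₁.2 hq'.1 h)), fun h => hne (le_antisymm (hq'.2 hq₁.1 h) h)⟩
  -- `v` lies in all the other minimal primes
  obtain ⟨v, hv, hv1⟩ : ∃ v, (∀ q ∈ S, v ∈ q) ∧ v ∉ q₁ := by
    have hnot : ¬ S.inf id ≤ q₁ := fun h => by
      obtain ⟨q, hq, hle⟩ := (‹q₁.IsPrime›.inf_le' (s := S) (f := id)).1 h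
      exact (hincomp q hq).1 hle
    obtain ⟨v, hv, hv1⟩ := SetLike.not_le_iff_exists.1 hnot
    exact ⟨v, fun q hq => (Finset.inf_le (f := id) hq) hv, hv1⟩
  -- `u` lies in `q₁` only
  obtain ⟨u, hu1, hu⟩ : ∃ u ∈ q₁, ∀ q ∈ S, u ∉ q := by
    by_contra h
    push Not at h
    have hsub : (q₁ : Set A) ⊆ ⋃ q ∈ (↑S : Set (Ideal A)), (id q : Ideal A) := fun x hx => by
      obtain ⟨q, hq, hxq⟩ := h x hx
      exact Set.mem_biUnion hq hxq
    obtain ⟨q, hq, hle⟩ := (Ideal.subset_union_prime ⊥ ⊥ fun q hq _ _ => hS q hq).1 hsub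
    exact (hincomp q hq).2 hle
  have huv : u * v = 0 := by
    have h0 : u * v ∈ sInf (minimalPrimes A) := Submodule.mem_sInf.2 fun (q : Ideal A) hq => by
      by_cases hq' : q = q₁
      · exact hq' ▸ q₁.mul_mem_right v hu1
      · exact q.mul_mem_left u (hv q (Finset.mem_erase.2 ⟨hq', hfin.mem_toFinset.2 hq⟩))
    have h1 : u * v ∈ (⊥ : Ideal A).radical := by rwa [← Ideal.sInf_minimalPrimes]
    exact IsReduced.eq_zero _ h1
  have hb : u + v ∈ nonZeroDivisors A := hnz _ fun q hq hmem => by
    by_cases hq' : q = q₁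
    · subst hq'
      exact hv1 ((q.add_mem_iff_right hu1).1 hmem)
    · have hqS := Finset.mem_erase.2 ⟨hq', hfin.mem_toFinset.2 hq⟩
      exact hu q hqS ((q.add_mem_iff_left (hv q hqS)).1 hmem)
  obtain ⟨c, hc⟩ := H u (u + v) hb (by rw [mul_add, huv, add_zero])
  have hc1 : c ∈ q₁ := by
    have : (u + v) * c ∈ q₁ := hc ▸ hu1
    refine (‹q₁.IsPrime›.mem_or_mem this).resolve_left fun h => hv1 ?_
    exact (q₁.add_mem_iff_right hu1).1 h
  have hcu : IsUnit (1 - c) := IsLocalRing.isUnit_one_sub_self_of_mem_nonunits c fun h =>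
    ‹q₁.IsPrime›.ne_top (Ideal.eq_top_of_isUnit_mem _ hc1 h)
  obtain ⟨q, hq⟩ := hSne
  refine hu q hq ?_
  have : u * (1 - c) ∈ q := by
    rw [show u * (1 - c) = v * c by linear_combination hc]
    exact q.mul_mem_right c (hv q hq)
  exact ((hS q hq).mem_or_mem this).resolve_right fun h => (hS q hq).ne_top (Ideal.eq_top_of_isUnit_mem _ h hcu)

/-- A reduced one dimensional noetherian local ring, integrally closed in its total fraction ring, is a
discrete valuation ring. -/
theorem isDiscreteValuationRing_of_integrallyClosed [IsNoetherianRing A] [IsLocalRing A] [IsReduced A]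
    (hdim : ringKrullDim A = 1)
    (H : ∀ x : Localization (nonZeroDivisors A), IsIntegral A x →
      ∃ y : A, algebraMap A (Localization (nonZeroDivisors A)) y = x) :
    ∃ _ : IsDomain A, IsDiscreteValuationRing A := by
  let Q := Localization (nonZeroDivisors A)
  haveI hdom : IsDomain A := isDomain_of_integrallyClosed fun a b hb hab => by
    let x : Q := IsLocalization.mk' Q a (⟨b, hb⟩ : nonZeroDivisors A)
    have hxx : x * x = x := by
      rw [← IsLocalization.mk'_mul, IsLocalization.mk'_eq_iff_eq]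
      congr 1
      show b * (a * a) = b * b * a
      rw [hab]; ring
    obtain ⟨y, hy⟩ := H x ⟨X ^ 2 - X, monic_X_pow_sub (by simp), by simp [sq, hxx]⟩
    rw [IsLocalization.eq_mk'_iff_mul_eq, ← map_mul] at hy
    exact ⟨y, (IsLocalization.injective Q le_rfl hy).symm.trans (mul_comm _ _)⟩
  refine ⟨hdom, ?_⟩
  have hic : IsIntegrallyClosed A := (isIntegrallyClosed_iff Q).2 fun {x} hx => H x hx
  have hnf : ¬ IsField A := fun h => by
    rw [ringKrullDim_eq_zero_of_isField h] at hdim
    exact zero_ne_one hdim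
  have huniq : ∃! P : Ideal A, P ≠ ⊥ ∧ P.IsPrime := by
    refine ⟨IsLocalRing.maximalIdeal A,
      ⟨fun h => hnf ((IsLocalRing.isField_iff_maximalIdeal_eq).2 h), inferInstance⟩, ?_⟩
    rintro P ⟨hP0, hP⟩
    haveI : Ring.KrullDimLE 1 A := Ring.krullDimLE_iff.2 hdim.le
    haveI := hP
    exact IsLocalRing.eq_maximalIdeal (Ideal.IsPrime.isMaximal_of_ne_bot hP hP0)
  have hh : IsIntegrallyClosed A ∧ ∃! P : Ideal A, P ≠ ⊥ ∧ P.IsPrime := ⟨hic, huniq⟩
  exact ((IsDiscreteValuationRing.TFAE A hnf).out 0 3).2 hh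

variable {C B : Type u} [CommRing C] [CommRing B] [Algebra C B]

/-- A localization of a ring integrally closed in an extension in which all nonzerodivisors of the
localization become units near the prime. -/
theorem integrallyClosed_localization (hinj : Function.Injective (algebraMap C B))
    (hC : ∀ z : B, IsIntegral C z → ∃ c, algebraMap C B c = z) (P : Ideal C) [P.IsPrime]
    [Algebra C A] [IsLocalization.AtPrime A P]
    (hu : ∀ β : C, algebraMap C A β ∈ nonZeroDivisors A →
      ∃ g ∉ P, ∃ (h : B) (n : ℕ), algebraMap C B β * h = algebraMap C B g ^ n) :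
    ∀ x : Localization (nonZeroDivisors A), IsIntegral A x →
      ∃ y : A, algebraMap A (Localization (nonZeroDivisors A)) y = x := by
  let M := Algebra.algebraMapSubmonoid B P.primeCompl
  let L := Localization M
  have hMu : ∀ g : P.primeCompl, IsUnit (algebraMap C L g) := fun g => by
    rw [IsScalarTower.algebraMap_apply C B L]
    exact IsLocalization.map_units L (⟨_, g.1, g.2, rfl⟩ : M)
  let ψ : A →+* L := IsLocalization.lift (M := P.primeCompl) hMu
  letI : Algebra A L := ψ.toAlgebra
  haveI : IsScalarTower C A L := IsScalarTower.of_algebraMap_eq fun c => (IsLocalization.lift_eq hMu c).symm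
  have hψ : Function.Injective ψ := by
    refine (injective_iff_map_eq_zero _).2 fun a ha => ?_
    obtain ⟨⟨c, s⟩, hcs⟩ := IsLocalization.surj P.primeCompl a
    have h0 : algebraMap C L c = 0 := by
      rw [IsScalarTower.algebraMap_apply C A L, ← hcs]
      show ψ _ = 0
      rw [map_mul, ha, zero_mul]
    rw [IsScalarTower.algebraMap_apply C B L] at h0
    obtain ⟨⟨_, g, hg, rfl⟩, hg0⟩ := (IsLocalization.map_eq_zero_iff M L _).1 h0
    have hgc : g * c = 0 := hinj (by rw [map_mul, map_zero]; exact hg0)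
    have : algebraMap C A c = 0 := (IsLocalization.map_eq_zero_iff P.primeCompl A c).2 ⟨⟨g, hg⟩, hgc⟩
    rw [← hcs] at this
    exact (IsUnit.mul_left_eq_zero (IsLocalization.map_units A s)).1 this
  have hunit : ∀ b : nonZeroDivisors A, IsUnit (ψ b) := by
    rintro ⟨b, hb⟩
    obtain ⟨⟨β, s⟩, hβ⟩ := IsLocalization.surj P.primeCompl b
    have hβ' : algebraMap C A β ∈ nonZeroDivisors A :=
      hβ ▸ mul_mem hb (IsLocalization.map_units A s).mem_nonZeroDivisors
    obtain ⟨g, hg, h, n, hgn⟩ := hu β hβ'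
    have h1 : IsUnit (algebraMap C L β) := by
      have h2 : IsUnit (algebraMap B L (algebraMap C B g ^ n)) := by
        rw [map_pow, ← IsScalarTower.algebraMap_apply C B L]
        exact (hMu ⟨g, hg⟩).pow n
      rw [← hgn, map_mul, ← IsScalarTower.algebraMap_apply C B L] at h2
      exact isUnit_of_mul_isUnit_left h2
    rw [IsScalarTower.algebraMap_apply C A L, ← hβ] at h1
    change IsUnit (ψ (_ * _)) at h1
    rw [map_mul] at h1
    exact isUnit_of_mul_isUnit_left h1
  intro x hx
  let j : Localization (nonZeroDivisors A) →+* L := IsLocalization.lift hunit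
  have hj : ∀ a, j (algebraMap A _ a) = ψ a := IsLocalization.lift_eq hunit
  have hjinj : Function.Injective j := by
    refine (injective_iff_map_eq_zero _).2 fun z hz => ?_
    obtain ⟨a, b, rfl⟩ := IsLocalization.exists_mk'_eq (nonZeroDivisors A) z
    have h0 := congrArg j (IsLocalization.mk'_spec (Localization (nonZeroDivisors A)) a b)
    rw [map_mul, hz, zero_mul, hj] at h0
    rw [(hψ (h0.symm.trans (map_zero ψ).symm) : a = 0), IsLocalization.mk'_zero]
  -- integral elements of `L` come from `A`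
  have hxL : IsIntegral A (j x) := by
    obtain ⟨p, hp, hpx⟩ := hx
    refine ⟨p, hp, ?_⟩
    rw [show (algebraMap A L) = j.comp (algebraMap A _) from RingHom.ext fun a => (hj a).symm,
      ← Polynomial.hom_eval₂, hpx, map_zero]
  obtain ⟨m, hm⟩ := IsIntegral.exists_multiple_integral_of_isLocalization P.primeCompl (j x) hxL
  obtain ⟨⟨z, ⟨_, s, hs, rfl⟩⟩, hz⟩ := IsLocalization.surj M (j x)
  replace hz : j x * algebraMap C L s = algebraMap B L z := by
    rw [IsScalarTower.algebraMap_apply C B L]; exact hz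
  -- the numerator `m • z` is integral over `C` up to a denominator
  have hint : IsIntegral C (algebraMap B L (algebraMap C B m * z)) := by
    rw [map_mul, ← IsScalarTower.algebraMap_apply C B L, ← hz]
    rw [show algebraMap C L m * (j x * algebraMap C L s) = (m • j x) * algebraMap C L s by
      rw [Submonoid.smul_def, Algebra.smul_def]; ring]
    exact hm.mul isIntegral_algebraMap
  obtain ⟨p, hp, hpz⟩ := hint
  have h3 : algebraMap B L (aeval (algebraMap C B m * z) p) = 0 := by
    rw [aeval_def, hom_eval₂, ← IsScalarTower.algebraMap_eq C B L]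
    exact hpz
  obtain ⟨⟨_, t, ht, rfl⟩, ht0⟩ := (IsLocalization.map_eq_zero_iff M L _).1 h3
  have hint' : IsIntegral C (algebraMap C B t * (algebraMap C B m * z)) := by
    by_cases hn : p.natDegree = 0
    · rw [hp.natDegree_eq_zero.mp hn, map_one, mul_one] at ht0
      rw [show algebraMap C B t = 0 from ht0, zero_mul]
      exact isIntegral_zero
    refine ⟨p.scaleRoots t, (monic_scaleRoots_iff t).2 hp, ?_⟩
    rw [scaleRoots_eval₂_mul, ← aeval_def]
    change algebraMap C B t * aeval (algebraMap C B m * z) p = 0 at ht0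
    obtain ⟨k, hk⟩ : ∃ k, p.natDegree = k + 1 := ⟨p.natDegree - 1, by omega⟩
    rw [hk, pow_succ, mul_assoc, ht0, mul_zero]
  obtain ⟨c, hc⟩ := hC _ hint'
  refine ⟨IsLocalization.mk' A c (⟨t, ht⟩ * m * ⟨s, hs⟩ : P.primeCompl), hjinj ?_⟩
  rw [hj]
  show IsLocalization.lift hMu _ = _
  rw [IsLocalization.lift_mk'_spec, IsScalarTower.algebraMap_apply C B L, hc, map_mul, map_mul,
    ← IsScalarTower.algebraMap_apply, ← IsScalarTower.algebraMap_apply, ← hz, Submonoid.coe_mul,
    Submonoid.coe_mul, map_mul, map_mul]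
  ring

end Groth.Agent.NormBoundary
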